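import Mathlib
import Cfsg.Agent.Lib.Invol.Bender.Main
import Cfsg.Agent.Lib.Invol.Bender.SplitOfRegular
import Cfsg.Agent.Lib.Invol.Bender.Cor.Setup
import Cfsg.Agent.Lib.Invol.StronglyEmbeddedCount

/-!
# The involutions of a core-free strongly embedded subgroup

If the group has two commuting involutions they lie in the centre of the regular two-subgroup, so
they commute pairwise.
-/

set_option autoImplicit false
set_option linter.style.haveILetI false

namespace Cfsg.Agent.Fus.RootClass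

open MulAction Cfsg.Agent.Invol.Bender

variable {G : Type*} [Group G] [Finite G]

theorem commute_involutions {H : Subgroup G} (hH : Cfsg.IsStronglyEmbedded H)
    (hcore : H.normalCore = ⊥) (hr : TwoRank (⊤ : Subgroup G)) {s t : G} (hs : orderOf s = 2)
    (hsH : s ∈ H) (ht : orderOf t = 2) (htH : t ∈ H) : Commute s t := by
  have U := of_stronglyEmbedded hH
  haveI : FaithfulSMul G (G ⧸ H) := by
    refine ⟨fun {a b} h => ?_⟩
    have h1 : a⁻¹ * b ∈ (⊥ : Subgroup G) := by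
      rw [← hcore, Subgroup.normalCore_eq_ker, MonoidHom.mem_ker]
      exact Equiv.ext fun y => by
        show (a⁻¹ * b) • y = y
        rw [mul_smul, ← h, inv_smul_smul]
    exact inv_mul_eq_one.1 (Subgroup.mem_bot.1 h1)
  have hker := ker_top_eq_bot U
  obtain ⟨c, hcdef⟩ : ∃ c : G ⧸ H, c = ((1 : G) : G ⧸ H) := ⟨_, rfl⟩
  obtain ⟨Q, hQ⟩ := Cor.split_top below U hr c (cen_top U c)
  have hstab : stabilizer G c = H := by rw [hcdef, stabilizer_quotient]
  have hle : Q ≤ stabilizer G c := fun q hq => (Subgroup.mem_inf.1 (hQ.le hq)).2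
  have hinvQ : ∀ x, orderOf x = 2 → x ∈ H → x ∈ Q := fun x hx hxH => by
    refine invol_mem_of_regular U (fun h hh q hq => hQ.conj_mem h ⟨Subgroup.mem_top h, hh⟩ q hq) hle
      (fun x y hx hy => hQ.exists_move x (cen_top U x) hx y (cen_top U y) hy) ⟨hx, ?_⟩
    exact mem_stabilizer_iff.1 (hstab.symm ▸ hxH)
  obtain ⟨k, hk⟩ := hQ.two_index
  rw [hker, Subgroup.card_bot, one_mul] at hk
  haveI : Fact (Nat.Prime 2) := ⟨Nat.prime_two⟩
  have hQp : IsPGroup 2 ↥Q := IsPGroup.of_card hk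
  haveI : Nontrivial ↥Q := ⟨⟨s, hinvQ s hs hsH⟩, 1, fun e => by
    have := congrArg Subtype.val e
    simp only [Subgroup.coe_one] at this
    rw [this, orderOf_one] at hs
    omega⟩
  haveI : Nontrivial ↥(Subgroup.center ↥Q) := hQp.center_nontrivial
  have h2 : 2 ∣ Nat.card ↥(Subgroup.center ↥Q) := by
    obtain ⟨j, hj⟩ := IsPGroup.iff_card.1 (hQp.to_subgroup (Subgroup.center ↥Q))
    rcases j with - | j
    · exact absurd hj (Finite.one_lt_card (α := ↥(Subgroup.center ↥Q))).ne'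
    · exact hj ▸ dvd_pow_self 2 (Nat.succ_ne_zero j)
  obtain ⟨z, hz⟩ := exists_prime_orderOf_dvd_card' (G := ↥(Subgroup.center ↥Q)) 2 h2
  have hzo : orderOf ((z : ↥Q) : G) = 2 := by rw [Subgroup.orderOf_coe, Subgroup.orderOf_coe, hz]
  have hzH : ((z : ↥Q) : G) ∈ H := hstab ▸ hle (z : ↥Q).2
  obtain ⟨u, hu, huH⟩ : ∃ u, orderOf u = 2 ∧ u ∉ H := by
    by_contra! hall
    have hmem : s ∈ H.normalCore := fun g =>
      hall _ ((Invol.orderOf_conj_eq g s).trans hs)
    rw [hcore, Subgroup.mem_bot] at hmem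
    rw [hmem, orderOf_one] at hs
    omega
  obtain ⟨d, hd, hds⟩ := Invol.exists_conj_inf hH hu huH hzo hzH hs hsH
  have hdS : d ∈ (⊤ : Subgroup G) ⊓ stabilizer G c := ⟨Subgroup.mem_top d, hstab.symm ▸ hd.1⟩
  have htQ : d⁻¹ * t * d ∈ Q := by
    have := hQ.conj_mem d⁻¹ (Subgroup.inv_mem _ hdS) t (hinvQ t ht htH)
    rwa [inv_inv] at this
  have hcomm : (z : ↥Q).1 * (d⁻¹ * t * d) = d⁻¹ * t * d * (z : ↥Q).1 :=
    (congrArg Subtype.val (Subgroup.mem_center_iff.1 z.2 ⟨_, htQ⟩)).symm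
  show s * t = t * s
  rw [← hds]
  calc d * (z : ↥Q).1 * d⁻¹ * t = d * ((z : ↥Q).1 * (d⁻¹ * t * d)) * d⁻¹ := by group
    _ = d * (d⁻¹ * t * d * (z : ↥Q).1) * d⁻¹ := by rw [hcomm]
    _ = t * (d * (z : ↥Q).1 * d⁻¹) := by group

end Cfsg.Agent.Fus.RootClass
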