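import Mathlib
import Cfsg.Agent.Lib.Fus.RootInvPartners
import Cfsg.Agent.Lib.Fus.RootInvSimple

/-!
# Non-degenerate classes of root involutions: components of the graph of products in the class

The graph of odd products is connected, every member has a product partner, and two members in
different components of the product graph either commute or have a product of odd order; commuting
members in different components make the two components commute.
-/

set_option autoImplicit false

namespace Cfsg.Agent.Fus.RootClass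

open RootInv

variable {G : Type*} [Group G] {D : Set G}

/-- Conjugation maps paths of odd products to paths. -/
theorem reach_conj (hD : Cfsg.IsRootInvolutionSet D) (g : G) {a b : G}
    (h : Relation.ReflTransGen (Cfsg.OddAdj D) a b) :
    Relation.ReflTransGen (Cfsg.OddAdj D) (g * a * g⁻¹) (g * b * g⁻¹) :=
  h.lift (fun y => g * y * g⁻¹) fun _ _ hab => oddAdj_conj hD hab g

theorem conj_ne (g : G) {a b : G} (h : a ≠ b) : g * a * g⁻¹ ≠ g * b * g⁻¹ :=
  fun e => h (mul_left_cancel (mul_right_cancel e))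

theorem prodAdj_conj (hD : Cfsg.IsRootInvolutionSet D) (g : G) {a b : G}
    (h : Cfsg.ProdAdj D a b) : Cfsg.ProdAdj D (g * a * g⁻¹) (g * b * g⁻¹) := by
  obtain ⟨ha, hb, hne, hab, hmem⟩ := h
  refine ⟨hD.conj_mem a ha g, hD.conj_mem b hb g, conj_ne g hne, ?_, ?_⟩
  · rw [show g * a * g⁻¹ * (g * b * g⁻¹) = g * (a * b) * g⁻¹ by group, hab]; group
  · rw [show g * a * g⁻¹ * (g * b * g⁻¹) = g * (a * b) * g⁻¹ by group]
    exact hD.conj_mem _ hmem g

theorem prodAdj_symm {a b : G} (h : Cfsg.ProdAdj D a b) : Cfsg.ProdAdj D b a :=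
  ⟨h.2.1, h.1, h.2.2.1.symm, h.2.2.2.1.symm, h.2.2.2.1 ▸ h.2.2.2.2⟩

/-- `a` and `b` lie in one component of the product graph. -/
def Conn (D : Set G) (a b : G) : Prop := Relation.ReflTransGen (Cfsg.ProdAdj D) a b

theorem Conn.trans {a b c : G} (h : Conn D a b) (h' : Conn D b c) : Conn D a c :=
  Relation.ReflTransGen.trans h h'

theorem Conn.symm {a b : G} (h : Conn D a b) : Conn D b a := by
  unfold Conn at *
  induction h with
  | refl => exact .refl
  | tail _ h ih => exact ih.head (prodAdj_symm h)

theorem Conn.conj (hD : Cfsg.IsRootInvolutionSet D) (g : G) {a b : G} (h : Conn D a b) :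
    Conn D (g * a * g⁻¹) (g * b * g⁻¹) := by
  unfold Conn at *
  exact h.lift (fun y => g * y * g⁻¹) fun _ _ hab => prodAdj_conj hD g hab

theorem Conn.mem {a b : G} (h : Conn D a b) (ha : a ∈ D) : b ∈ D := by
  rcases Relation.ReflTransGen.cases_tail h with rfl | ⟨c, -, hc⟩
  · exact ha
  · exact hc.2.1

/-- A pair with product of order four lies in one component, with the square. -/
theorem conn_of_four (hD : Cfsg.IsRootInvolutionSet D) {p t : G} (hp : p ∈ D) (ht : t ∈ D)
    (h : orderOf (p * t) = 4) : Conn D p t := by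
  obtain ⟨q, hq⟩ : ∃ q, q = (p * t) ^ 2 := ⟨_, rfl⟩
  obtain ⟨hqD, -, -, hqp, hqt, hqtD, -, hpq⟩ := four_facts hD hp ht h hq.symm
  have hnp := not_commute_of_four hD hp ht h
  have h1 : Cfsg.ProdAdj D p q := ⟨hp, hqD, fun e => hnp (e ▸ hqt), hqp.symm, hpq⟩
  have h2 : Cfsg.ProdAdj D q t := ⟨hqD, ht, fun e => hnp (e ▸ hqp.symm), hqt, hqtD⟩
  exact (Relation.ReflTransGen.single h1).tail h2

/-- Members in different components commute or have a product of odd order. -/
theorem commute_or_odd (hD : Cfsg.IsRootInvolutionSet D) {a b : G} (ha : a ∈ D) (hb : b ∈ D)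
    (h : ¬ Conn D a b) : a * b = b * a ∨ Cfsg.OddAdj D a b := by
  rcases trichotomy hD ha hb with e | e | e
  · exact Or.inl e
  · exact Or.inr e
  · exact absurd (conn_of_four hD ha hb e) h

/-- Commuting with a member of another component means commuting with the whole component. -/
theorem commute_of_conn (hD : Cfsg.IsRootInvolutionSet D) {d e x : G} (hx : x ∈ D)
    (hn : ¬ Conn D d x) (hdx : d * x = x * d) (he : Conn D d e) : e * x = x * e := by
  induction he with
  | refl => exact hdx
  | @tail u w huv hadj ih =>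
    obtain ⟨hu, hw, hne, huw, hmem⟩ := hadj
    rcases trichotomy hD hw hx with e | e | e
    · exact e
    · exact absurd hmem (not_mem_mul_of_commute hD hu ih huw.symm e)
    · exact absurd ((huv.tail ⟨hu, hw, hne, huw, hmem⟩).trans (conn_of_four hD hw hx e)) hn

/-- Components in which some members commute commute elementwise. -/
theorem commute_of_conn₂ (hD : Cfsg.IsRootInvolutionSet D) {a b a' b' : G} (ha : a ∈ D)
    (hb : b ∈ D) (hn : ¬ Conn D a b) (hab : a * b = b * a) (haa : Conn D a a')
    (hbb : Conn D b b') : a' * b' = b' * a' := by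
  have h1 := commute_of_conn hD hb hn hab haa
  refine (commute_of_conn hD (haa.mem ha) (fun e => hn (haa.trans e.symm)) h1.symm hbb).symm

/-- All pairs from two components are odd, if one pair is. -/
theorem oddAdj_of_conn (hD : Cfsg.IsRootInvolutionSet D) {a b a' b' : G}
    (hn : ¬ Conn D a b) (hab : Cfsg.OddAdj D a b) (haa : Conn D a a')
    (hbb : Conn D b b') : Cfsg.OddAdj D a' b' := by
  have hn' : ¬ Conn D a' b' := fun e => hn ((haa.trans e).trans hbb.symm)
  refine (commute_or_odd hD (haa.mem hab.1) (hbb.mem hab.2.1) hn').resolve_left fun e => ?_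
  exact not_commute_of_oddAdj hD hab
    (commute_of_conn₂ hD (haa.mem hab.1) (hbb.mem hab.2.1) hn' e haa.symm hbb.symm)

/-- No member is isolated for odd products. -/
theorem not_isolated (hcl : Cfsg.IsRootInvolutionClass D)
    (hnd : Cfsg.IsNondegenerateRootInvolutionSet D) {w : G} :
    ¬ Cfsg.IsIsolatedElem (Cfsg.OddAdj D) D w := by
  intro hw
  obtain ⟨a, ha, b, hb, hne, hodd⟩ := hnd.2.2.1
  obtain ⟨g, rfl⟩ := hcl.2.2 w hw.1 a ha
  exact ((isolated_conj hcl.1 hw g).2 b).1 ⟨ha, hb, hne, hodd⟩

/-- The graph of odd products is connected. -/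
theorem odd_connected [Finite G] (hcl : Cfsg.IsRootInvolutionClass D)
    (hnd : Cfsg.IsNondegenerateRootInvolutionSet D) : Cfsg.IsConnectedSet (Cfsg.OddAdj D) D := by
  have hD := hcl.1
  have hempty : {w | Cfsg.IsIsolatedElem (Cfsg.OddAdj D) D w} = ∅ :=
    Set.eq_empty_iff_forall_notMem.2 fun w hw => not_isolated hcl hnd hw
  have hcomm : ∀ a ∈ D, ∀ b ∈ D, ¬ Relation.ReflTransGen (Cfsg.OddAdj D) a b → a * b = b * a := by
    intro a ha b hb hne
    obtain ⟨d, hd⟩ := exists_adj_of_not_isolated ha (not_isolated hcl hnd)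
    obtain ⟨d', hd'⟩ := exists_adj_of_not_isolated hb (not_isolated hcl hnd)
    have h := commutator_mem_closure_isolated hD hd hd' hne
    rw [hempty, Subgroup.closure_empty, Subgroup.mem_bot, mul_inv_eq_one, mul_inv_eq_iff_eq_mul] at h
    exact h
  let H : Subgroup G :=
    { carrier := {g | ∀ c ∈ D, Relation.ReflTransGen (Cfsg.OddAdj D) c (g * c * g⁻¹)}
      one_mem' := fun c _ => by simp only [one_mul, inv_one, mul_one]; exact .refl
      mul_mem' := fun {g h} hg hh c hc => by
        have := (hh c hc).trans (hg _ (hD.conj_mem c hc h))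
        simpa [mul_assoc] using this
      inv_mem' := fun {g} hg c hc => by
        have := hg _ (hD.conj_mem c hc g⁻¹)
        rw [show g * (g⁻¹ * c * g⁻¹⁻¹) * g⁻¹ = c by group] at this
        exact reach_symm this }
  have hH : H = ⊤ := by
    rw [eq_top_iff, ← hD.generates, Subgroup.closure_le]
    intro d hd c hc
    by_cases h : Relation.ReflTransGen (Cfsg.OddAdj D) c d
    · refine h.trans (reach_symm ?_)
      have := reach_conj hD d h
      rwa [mul_inv_cancel_right] at this
    · rw [← hcomm c hc d hd h, mul_inv_cancel_right]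
  intro a ha b hb
  obtain ⟨g, rfl⟩ := hcl.2.2 a ha b hb
  exact (hH.ge (Subgroup.mem_top g) : g ∈ H) a ha

/-- Some commuting product of two members is a member. -/
theorem products_nonempty (hnd : Cfsg.IsNondegenerateRootInvolutionSet D) :
    (D ∩ Cfsg.commutingProducts D).Nonempty := by
  obtain ⟨a, ha, b, hb, h4⟩ := hnd.2.2.2
  obtain ⟨hqD, -, -, hqa, -, -, -, hmem⟩ := four_facts hnd.1 ha hb h4 rfl
  exact ⟨_, hmem, a, ha, _, hqD, hqa.symm, ne_one hnd.1 hmem, rfl⟩

/-- Every member has a product partner. -/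
theorem exists_partner [Finite G] (hcl : Cfsg.IsRootInvolutionClass D)
    (hnd : Cfsg.IsNondegenerateRootInvolutionSet D) {a : G} (ha : a ∈ D) :
    ∃ b, Cfsg.ProdAdj D a b := by
  obtain ⟨b, hb, hba, hmem⟩ := RootInvSimple.exists_partner hcl.1 (odd_connected hcl hnd)
    (products_nonempty hnd) ha
  refine ⟨b, ha, hb, fun e => ?_, hba.symm, hba ▸ hmem⟩
  rw [← e, mul_self hcl.1 ha] at hmem
  exact ne_one hcl.1 hmem rfl

/-- A conjugate of a pair with product of order four starts at any member. -/
theorem exists_four (hcl : Cfsg.IsRootInvolutionClass D)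
    (hnd : Cfsg.IsNondegenerateRootInvolutionSet D) {d : G} (hd : d ∈ D) :
    ∃ t ∈ D, orderOf (d * t) = 4 := by
  obtain ⟨a, ha, b, hb, h4⟩ := hnd.2.2.2
  obtain ⟨g, rfl⟩ := hcl.2.2 a ha d hd
  refine ⟨g * b * g⁻¹, hcl.1.conj_mem b hb g, ?_⟩
  rw [show g * a * g⁻¹ * (g * b * g⁻¹) = g * (a * b) * g⁻¹ by group, RootInv.orderOf_conj, h4]

end Cfsg.Agent.Fus.RootClass
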