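import Mathlib
import Cfsg.Agent.Lib.Fus.RootClass.Basic

/-!
# Blocks of a non-degenerate class of root involutions

If every proper subgroup has connected product graphs on its non-degenerate classes, then "equal
components or commuting" is an equivalence on the class, and a member fixes only its own block.
-/

set_option autoImplicit false

namespace Cfsg.Agent.Fus.RootClass

open RootInv

variable {G : Type*} [Group G] [Finite G] {D : Set G}

/-- Non-degenerate classes of proper subgroups have connected product graphs. -/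
def ConnBelow (G : Type*) [Group G] : Prop :=
  ∀ (K : Subgroup G) (E : Set ↥K), K ≠ ⊤ → Cfsg.IsRootInvolutionClass E →
    Cfsg.IsNondegenerateRootInvolutionSet E → Cfsg.IsConnectedSet (Cfsg.ProdAdj E) E

/-- One component, or commuting. -/
def Rel (D : Set G) (a b : G) : Prop := Conn D a b ∨ a * b = b * a

omit [Finite G] in
theorem Rel.symm {a b : G} (h : Rel D a b) : Rel D b a := h.imp Conn.symm Eq.symm

omit [Finite G] in
theorem Rel.conj (hD : Cfsg.IsRootInvolutionSet D) (g : G) {a b : G} (h : Rel D a b) :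
    Rel D (g * a * g⁻¹) (g * b * g⁻¹) :=
  h.imp (Conn.conj hD g) fun e => by
    rw [show g * a * g⁻¹ * (g * b * g⁻¹) = g * (a * b) * g⁻¹ by group, e]; group

omit [Finite G] in
/-- No member is central. -/
theorem not_central (hcl : Cfsg.IsRootInvolutionClass D)
    (hnd : Cfsg.IsNondegenerateRootInvolutionSet D) {x : G} (hx : x ∈ D) :
    Subgroup.centralizer ({x} : Set G) ≠ ⊤ := by
  intro h
  obtain ⟨a, ha, b, hb, hne, -⟩ := hnd.2.1
  have key : ∀ y ∈ D, y = x := fun y hy => by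
    obtain ⟨g, rfl⟩ := hcl.2.2 x hx y hy
    have := Subgroup.mem_centralizer_singleton_iff.1 (h.ge (Subgroup.mem_top g))
    rw [this, mul_inv_cancel_right]
  exact hne ((key a ha).trans (key b hb).symm)

/-- An odd component of the members commuting with `x` outside its component is a non-degenerate
class of a proper subgroup, hence one component. -/
theorem not_commute_of_commute_of_odd (hcl : Cfsg.IsRootInvolutionClass D)
    (hnd : Cfsg.IsNondegenerateRootInvolutionSet D) (ih : ConnBelow G) {d x z : G} (hx : x ∈ D)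
    (hdx : d * x = x * d) (hndx : ¬ Conn D d x) (hdz : Cfsg.OddAdj D d z) (hndz : ¬ Conn D d z) :
    z * x ≠ x * z := by
  intro hzx
  have hD := hcl.1
  have hd := hdz.1
  have hnzx : ¬ Conn D x z := fun e =>
    not_commute_of_oddAdj hD hdz (commute_of_conn₂ hD hd hx hndx hdx .refl e)
  obtain ⟨S, hS⟩ : ∃ S : Set G, S = {y | y ∈ D ∧ y * x = x * y ∧ ¬ Conn D x y} := ⟨_, rfl⟩
  have hmemS : ∀ {y}, y ∈ S ↔ y ∈ D ∧ y * x = x * y ∧ ¬ Conn D x y := fun {y} => by rw [hS]; rfl
  have hdS : d ∈ S := hmemS.2 ⟨hd, hdx, fun e => hndx e.symm⟩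
  have hzS : z ∈ S := hmemS.2 ⟨hdz.2.1, hzx, hnzx⟩
  have hSC : ∀ y ∈ S, ∀ e, Conn D y e → e ∈ S := fun y hy e he => by
    obtain ⟨hyD, hyx, hn⟩ := hmemS.1 hy
    exact hmemS.2 ⟨he.mem hyD, commute_of_conn hD hx (fun c => hn c.symm) hyx he,
      fun c => hn (c.trans he.symm)⟩
  have hSconj : ∀ u ∈ S, ∀ y ∈ S, u * y * u⁻¹ ∈ S := fun u hu y hy => by
    obtain ⟨-, hux, -⟩ := hmemS.1 hu
    obtain ⟨hyD, hyx, hn⟩ := hmemS.1 hy
    have hfix : u * x * u⁻¹ = x := by rw [hux, mul_inv_cancel_right]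
    refine hmemS.2 ⟨hD.conj_mem y hyD u, ?_, fun c => hn ?_⟩
    · conv_lhs => rw [← hfix]
      conv_rhs => rw [← hfix]
      rw [show u * y * u⁻¹ * (u * x * u⁻¹) = u * (y * x) * u⁻¹ by group, hyx]; group
    · have h := c.conj hD u⁻¹
      rwa [show u⁻¹ * (u * y * u⁻¹) * u⁻¹⁻¹ = y by group,
        show u⁻¹ * x * u⁻¹⁻¹ = x by
          calc u⁻¹ * x * u⁻¹⁻¹ = u⁻¹ * (u * x * u⁻¹) * u⁻¹⁻¹ := by rw [hfix]
            _ = x := by group] at h
  -- the component of `d` for odd products inside `S`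
  obtain ⟨R, hR⟩ : ∃ R : G → G → Prop, R = fun a b => Cfsg.OddAdj D a b ∧ a ∈ S ∧ b ∈ S := ⟨_, rfl⟩
  have hRsymm : ∀ {a b}, R a b → R b a := fun {a b} h => by
    rw [hR] at h ⊢; exact ⟨oddAdj_symm h.1, h.2.2, h.2.1⟩
  have hRsymm' : ∀ {a b}, Relation.ReflTransGen R a b → Relation.ReflTransGen R b a := by
    intro a b h
    induction h with
    | refl => exact .refl
    | tail _ h ih => exact ih.head (hRsymm h)
  obtain ⟨T, hT⟩ : ∃ T : Set G, T = {y | Relation.ReflTransGen R d y} := ⟨_, rfl⟩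
  have hmemT : ∀ {y}, y ∈ T ↔ Relation.ReflTransGen R d y := fun {y} => by rw [hT]; rfl
  have hTS : ∀ y ∈ T, y ∈ S := fun y hy => by
    rcases Relation.ReflTransGen.cases_tail (hmemT.1 hy) with rfl | ⟨c, -, hc⟩
    · exact hdS
    · rw [hR] at hc; exact hc.2.2
  have hTD : ∀ y ∈ T, y ∈ D := fun y hy => (hmemS.1 (hTS y hy)).1
  have hdT : d ∈ T := hmemT.2 .refl
  have hzT : z ∈ T := hmemT.2 (.single (by rw [hR]; exact ⟨hdz, hdS, hzS⟩))
  have hTconj : ∀ u ∈ T, ∀ y ∈ T, u * y * u⁻¹ ∈ T := fun u hu y hy => by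
    have hlift : ∀ {a b}, Relation.ReflTransGen R a b →
        Relation.ReflTransGen R (u * a * u⁻¹) (u * b * u⁻¹) := fun {a b} h =>
      h.lift (fun w => u * w * u⁻¹) fun p q hpq => by
        rw [hR] at hpq ⊢
        exact ⟨oddAdj_conj hD hpq.1 u, hSconj u (hTS u hu) p hpq.2.1, hSconj u (hTS u hu) q hpq.2.2⟩
    have h1 := hlift (hmemT.1 hu)
    rw [mul_inv_cancel_right] at h1
    exact hmemT.2 (((hmemT.1 hu).trans (hRsymm' h1)).trans (hlift (hmemT.1 hy)))
  have hTC : ∀ y ∈ T, ∀ e, Conn D y e → e ∈ T := by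
    intro y hy
    replace hy := hmemT.1 hy
    induction hy with
    | refl =>
      intro e he
      refine hmemT.2 ((hmemT.1 hzT).tail ?_)
      rw [hR]
      exact ⟨oddAdj_symm (oddAdj_of_conn hD hndz hdz he .refl), hzS, hSC d hdS e he⟩
    | @tail u w hu huw ihu =>
      intro e he
      by_cases hc : Conn D u w
      · exact ihu e (hc.trans he)
      rw [hR] at huw
      refine hmemT.2 (hu.tail ?_)
      rw [hR]
      exact ⟨oddAdj_of_conn hD hc huw.1 .refl he, huw.2.1, hSC w huw.2.2 e he⟩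
  -- the subgroup it generates
  obtain ⟨K, hK⟩ : ∃ K : Subgroup G, K = Subgroup.closure T := ⟨_, rfl⟩
  have hTK : ∀ y ∈ T, y ∈ K := fun y hy => hK ▸ Subgroup.subset_closure hy
  have hKtop : K ≠ ⊤ := fun e => not_central hcl hnd hx (eq_top_iff.2 (by
    rw [← e, hK, Subgroup.closure_le]
    exact fun y hy => Subgroup.mem_centralizer_singleton_iff.2 (hmemS.1 (hTS y hy)).2.1))
  have hKT : ∀ g ∈ K, ∀ y ∈ T, g * y * g⁻¹ ∈ T := by
    intro g hg
    rw [hK] at hg
    suffices ∀ y ∈ T, g * y * g⁻¹ ∈ T ∧ g⁻¹ * y * g ∈ T from fun y hy => (this y hy).1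
    induction hg using Subgroup.closure_induction with
    | mem k hk =>
      intro y hy
      refine ⟨hTconj k hk y hy, ?_⟩
      have := hTconj k hk y hy
      rw [inv_eq hD (hTD k hk)] at this ⊢
      exact this
    | one => intro y hy; simpa using hy
    | mul u v _ _ ihu ihv =>
      intro y hy
      refine ⟨?_, ?_⟩
      · have := (ihu _ (ihv y hy).1).1
        simpa [mul_assoc] using this
      · have := (ihv _ (ihu y hy).2).2
        simpa [mul_assoc] using this
    | inv u _ ih' => intro y hy; simpa using (ih' y hy).symm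
  obtain ⟨E, hE⟩ : ∃ E : Set ↥K, E = {k : ↥K | (k : G) ∈ T} := ⟨_, rfl⟩
  have hmemE : ∀ {k : ↥K}, k ∈ E ↔ (k : G) ∈ T := fun {k} => by rw [hE]; rfl
  have hord : ∀ k : ↥K, orderOf k = orderOf (k : G) := fun k => (Subgroup.orderOf_coe k).symm
  have hroot : Cfsg.IsRootInvolutionSet E := by
    refine ⟨fun k hk => (hord k).trans (hD.orderOf_eq _ (hTD _ (hmemE.1 hk))), ?_,
      fun k hk g => hmemE.2 (hKT g g.2 k (hmemE.1 hk)), fun k hk l hl => ?_⟩
    · subst hK hE
      exact Subgroup.closure_closure_coe_preimage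
    · rcases hD.pair _ (hTD _ (hmemE.1 hk)) _ (hTD _ (hmemE.1 hl)) with e | e | e
      · exact Or.inl (Subtype.ext e)
      · exact Or.inr (Or.inl (by rwa [hord, Subgroup.coe_mul]))
      · refine Or.inr (Or.inr ⟨(hord _).trans e.1, hmemE.2 (hTC _ (hmemE.1 hk) _ ?_)⟩)
        have hkD := hTD _ (hmemE.1 hk)
        have hlD := hTD _ (hmemE.1 hl)
        obtain ⟨hqD, -, -, hqk, -, -, -, hmem⟩ := four_facts hD hkD hlD e.1 rfl
        refine Relation.ReflTransGen.single (⟨hkD, hqD, fun h => ?_, hqk.symm, hmem⟩ :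
          Cfsg.ProdAdj D _ _)
        have := hmem
        rw [← h, mul_self hD hkD] at this
        exact ne_one hD this rfl
  have hEclass : Cfsg.IsRootInvolutionClass E := by
    refine ⟨hroot, ⟨⟨d, hTK d hdT⟩, hmemE.2 hdT⟩, ?_⟩
    have key : ∀ y, ∀ hy : Relation.ReflTransGen R d y,
        ∃ g : ↥K, (⟨y, hTK y (hmemT.2 hy)⟩ : ↥K) = g * ⟨d, hTK d hdT⟩ * g⁻¹ := by
      intro y hy
      induction hy with
      | refl => exact ⟨1, by simp⟩
      | @tail u w hu huw ihu =>
        obtain ⟨g, hg⟩ := ihu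
        have huT : u ∈ T := hmemT.2 hu
        have hwT : w ∈ T := hmemT.2 (hu.tail huw)
        rw [hR] at huw
        have hadj : Cfsg.OddAdj E ⟨u, hTK u huT⟩ ⟨w, hTK w hwT⟩ :=
          ⟨hmemE.2 huT, hmemE.2 hwT, fun e => huw.1.2.2.1 (congrArg Subtype.val e),
            by rw [hord]; exact huw.1.2.2.2⟩
        obtain ⟨k, hk⟩ := exists_conj_of_oddAdj hroot hadj
        exact ⟨k * g, by rw [← hk, hg]; group⟩
    intro a ha b hb
    obtain ⟨g, hg⟩ := key a (hmemT.1 (hmemE.1 ha))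
    obtain ⟨h, hh⟩ := key b (hmemT.1 (hmemE.1 hb))
    refine ⟨h * g⁻¹, ?_⟩
    rw [show (a : ↥K) = ⟨(a : G), hTK _ (hmemE.1 ha)⟩ from rfl, hg,
      show (b : ↥K) = ⟨(b : G), hTK _ (hmemE.1 hb)⟩ from rfl, hh]
    group
  have hEnd : Cfsg.IsNondegenerateRootInvolutionSet E := by
    obtain ⟨e, hde⟩ := exists_partner hcl hnd hd
    obtain ⟨t, ht, ht4⟩ := exists_four hcl hnd hd
    have heT : e ∈ T := hTC d hdT e (.single hde)
    have htT : t ∈ T := hTC d hdT t (conn_of_four hD hd ht ht4)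
    refine ⟨hroot, ⟨⟨d, hTK d hdT⟩, hmemE.2 hdT, ⟨e, hTK e heT⟩, hmemE.2 heT,
      fun h => hde.2.2.1 (congrArg Subtype.val h), Subtype.ext hde.2.2.2.1⟩,
      ⟨⟨d, hTK d hdT⟩, hmemE.2 hdT, ⟨z, hTK z hzT⟩, hmemE.2 hzT,
      fun h => hdz.2.2.1 (congrArg Subtype.val h), by rw [hord]; exact hdz.2.2.2⟩,
      ⟨⟨d, hTK d hdT⟩, hmemE.2 hdT, ⟨t, hTK t htT⟩, hmemE.2 htT, (hord _).trans ht4⟩⟩
  have hpath := ih K E hKtop hEclass hEnd _ (hmemE.2 hdT : ⟨d, hTK d hdT⟩ ∈ E) _
    (hmemE.2 hzT : ⟨z, hTK z hzT⟩ ∈ E)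
  refine hndz ?_
  unfold Conn
  exact hpath.lift (fun k : ↥K => (k : G)) fun a b hab =>
    ⟨hTD _ (hmemE.1 hab.1), hTD _ (hmemE.1 hab.2.1), fun e => hab.2.2.1 (Subtype.ext e),
      congrArg Subtype.val hab.2.2.2.1, hTD _ (hmemE.1 hab.2.2.2.2)⟩

/-- The relation is an equivalence. -/
theorem Rel.trans (hcl : Cfsg.IsRootInvolutionClass D)
    (hnd : Cfsg.IsNondegenerateRootInvolutionSet D) (ih : ConnBelow G) {a b c : G} (ha : a ∈ D)
    (hb : b ∈ D) (hc : c ∈ D) (h : Rel D a b) (h' : Rel D b c) : Rel D a c := by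
  by_cases hac : Conn D a c
  · exact Or.inl hac
  by_cases hab : Conn D a b
  · refine Or.inr ?_
    have hbc : ¬ Conn D b c := fun e => hac (hab.trans e)
    exact commute_of_conn hcl.1 hc hbc (h'.resolve_left hbc) hab.symm
  by_cases hbc : Conn D b c
  · refine Or.inr ?_
    exact (commute_of_conn hcl.1 ha (fun e => hab e.symm) (h.resolve_left hab).symm hbc).symm
  refine Or.inr ((commute_or_odd hcl.1 ha hc hac).resolve_right fun hodd => ?_)
  exact not_commute_of_commute_of_odd hcl hnd ih hb (h.resolve_left hab) hab hodd hac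
    (h'.resolve_left hbc).symm

/-- The stabilizer of the block of a member. -/
def blockStab (hcl : Cfsg.IsRootInvolutionClass D) (hnd : Cfsg.IsNondegenerateRootInvolutionSet D)
    (ih : ConnBelow G) {d : G} (hd : d ∈ D) : Subgroup G where
  carrier := {g | Rel D d (g * d * g⁻¹)}
  one_mem' := Or.inl (by rw [one_mul, inv_one, mul_one]; exact .refl)
  mul_mem' {g h} hg hh := by
    have h1 := Rel.conj hcl.1 g hh
    have := Rel.trans hcl hnd ih hd (hcl.1.conj_mem d hd g)
      (hcl.1.conj_mem _ (hcl.1.conj_mem d hd h) g) hg h1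
    simpa [mul_assoc] using this
  inv_mem' {g} hg := by
    have h1 := Rel.conj hcl.1 g⁻¹ hg
    rw [show g⁻¹ * (g * d * g⁻¹) * g⁻¹⁻¹ = d by group] at h1
    exact h1.symm

variable (hcl : Cfsg.IsRootInvolutionClass D) (hnd : Cfsg.IsNondegenerateRootInvolutionSet D)
  (ih : ConnBelow G)

include hcl hnd ih

theorem mem_blockStab {d g : G} (hd : d ∈ D) :
    g ∈ blockStab hcl hnd ih hd ↔ Rel D d (g * d * g⁻¹) := Iff.rfl

/-- Members of a block fix it. -/
theorem mem_blockStab_of_rel {d u : G} (hd : d ∈ D) (hu : u ∈ D) (h : Rel D d u) :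
    u ∈ blockStab hcl hnd ih hd := by
  rw [mem_blockStab hcl hnd ih hd]
  have h1 := Rel.conj hcl.1 u h
  rw [mul_inv_cancel_right] at h1
  exact Rel.trans hcl hnd ih hd hu (hcl.1.conj_mem d hd u) h h1.symm

/-- A member fixing a block lies in it. -/
theorem rel_of_mem_blockStab {d u : G} (hd : d ∈ D) (hu : u ∈ D)
    (h : u ∈ blockStab hcl hnd ih hd) : Rel D d u := by
  have hD := hcl.1
  rw [mem_blockStab hcl hnd ih hd] at h
  rcases trichotomy hD hd hu with e | e | e
  · exact Or.inr e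
  swap
  · exact Or.inl (conn_of_four hD hd hu e)
  have hd'D := hD.conj_mem d hd u
  obtain ⟨d', hd'⟩ : ∃ d', d' = u * d * u⁻¹ := ⟨_, rfl⟩
  rw [← hd'] at h hd'D
  have hu' := mem_blockStab_of_rel hcl hnd ih hd hd'D h
  have hd1 := mem_blockStab_of_rel hcl hnd ih hd hd (Or.inl .refl)
  have hsq : d * d' = (d * u) ^ 2 := by rw [hd', inv_eq hD hu, pow_two]; group
  obtain ⟨n, hn⟩ := e.2.2.2
  have hmem : d * u ∈ blockStab hcl hnd ih hd := by
    have h2 : (d * d') ^ (n + 1) = d * u := by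
      rw [hsq, ← pow_mul, show 2 * (n + 1) = orderOf (d * u) + 1 by omega, pow_succ,
        pow_orderOf_eq_one, one_mul]
    rw [← h2]
    exact pow_mem (mul_mem hd1 hu') _
  have hfull : (d * u) ^ n ∈ blockStab hcl hnd ih hd := pow_mem hmem n
  rw [mem_blockStab hcl hnd ih hd] at hfull
  suffices hconj : (d * u) ^ n * d * ((d * u) ^ n)⁻¹ = u by rwa [hconj] at hfull
  have hc : d * (d * u) * d⁻¹ = (d * u)⁻¹ := by
    rw [mul_inv_rev, inv_eq hD hu, inv_eq hD hd, ← mul_assoc d d u, mul_self hD hd, one_mul]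
  have hp := congrArg (fun y => y ^ n) hc
  simp only [conj_pow, inv_pow] at hp
  have hinv : d * ((d * u) ^ n)⁻¹ = (d * u) ^ n * d := by
    rw [← mul_inv_eq_iff_eq_mul]
    have := congrArg (fun y => y⁻¹) hp
    simpa [mul_assoc] using this
  rw [mul_assoc, hinv, ← mul_assoc, ← pow_add]
  calc (d * u) ^ (n + n) * d = (d * u) ^ (n + n) * (d * u * u) := by
        rw [mul_assoc d u u, mul_self hD hu, mul_one]
    _ = (d * u) ^ (n + n + 1) * u := by rw [pow_succ]; group
    _ = u := by rw [show n + n + 1 = orderOf (d * u) by omega, pow_orderOf_eq_one, one_mul]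

/-- The fusion property of a block stabilizer. -/
theorem moves_blockStab {d u g : G} (hd : d ∈ D) (hu : u ∈ D) (huM : u ∈ blockStab hcl hnd ih hd)
    (hg : g * u * g⁻¹ ∈ blockStab hcl hnd ih hd) : g ∈ blockStab hcl hnd ih hd := by
  rw [mem_blockStab hcl hnd ih hd]
  have h1 := rel_of_mem_blockStab hcl hnd ih hd hu huM
  have hgu := hcl.1.conj_mem u hu g
  exact Rel.trans hcl hnd ih hd hgu (hcl.1.conj_mem d hd g)
    (rel_of_mem_blockStab hcl hnd ih hd hgu hg) (Rel.conj hcl.1 g h1).symm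

omit [Finite G] hnd ih in
/-- If all members are related, the product graph is connected. -/
theorem connected_of_all_rel (h : ∀ a ∈ D, ∀ b ∈ D, Rel D a b) :
    Cfsg.IsConnectedSet (Cfsg.ProdAdj D) D := by
  have hD := hcl.1
  let H : Subgroup G :=
    { carrier := {g | ∀ c ∈ D, Conn D c (g * c * g⁻¹)}
      one_mem' := fun c _ => by simp only [one_mul, inv_one, mul_one]; exact .refl
      mul_mem' := fun {g h} hg hh c hc => by
        have := (hh c hc).trans (hg _ (hD.conj_mem c hc h))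
        simpa [mul_assoc] using this
      inv_mem' := fun {g} hg c hc => by
        have := hg _ (hD.conj_mem c hc g⁻¹)
        rw [show g * (g⁻¹ * c * g⁻¹⁻¹) * g⁻¹ = c by group] at this
        exact this.symm }
  have hH : H = ⊤ := by
    rw [eq_top_iff, ← hD.generates, Subgroup.closure_le]
    intro u hu c hc
    by_cases hcu : Conn D c u
    · refine hcu.trans (Conn.symm ?_)
      have := hcu.conj hD u
      rwa [mul_inv_cancel_right] at this
    · rw [← (h c hc u hu).resolve_left hcu, mul_inv_cancel_right]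
      exact .refl
  intro a ha b hb
  obtain ⟨g, rfl⟩ := hcl.2.2 a ha b hb
  exact (hH.ge (Subgroup.mem_top g) : g ∈ H) a ha

end Cfsg.Agent.Fus.RootClass
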