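import Mathlib
import Cfsg.Agent.Lib.Fus.RootClass.Basic

/-!
# Generation and weak TI subsets

In a non-degenerate class of root involutions with connected product graph an odd partner and the
product partners of a member generate the group; hence weak TI subsets generate abelian subgroups.
-/

set_option autoImplicit false

namespace Cfsg.Agent.Fus.RootClass

open RootInv

variable {G : Type*} [Group G] [Finite G] {D : Set G}

/-- The return mover: a product partner `f` of `d` with a four partner that is odd to `d` is moved to `d`. -/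
theorem exists_back (hD : Cfsg.IsRootInvolutionSet D)
    (hc : Cfsg.IsConnectedSet (Cfsg.OddAdj D) D) {f d : G} (hf : f ∈ D) (hd : d ∈ D)
    (hdf : d * f = f * d) (hmem : d * f ∈ D)
    (hne : Cfsg.oddPartners D f ≠ Cfsg.oddPartners D d) :
    ∃ v ∈ Cfsg.productPartners D d, orderOf (f * v) = 4 ∧ (f * v) ^ 2 = d := by
  obtain ⟨y, hfy, hdy⟩ := exists_four_of_ne hD hc hf hd hdf hmem hne
  obtain ⟨v, hv, hfv, hfv2⟩ := exists_mover hD hd hdf hmem hfy hdy
  obtain ⟨-, -, -, -, hdv, hdvD, -, -⟩ := four_facts hD hf hv hfv hfv2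
  refine ⟨v, ⟨⟨hv, hdv.symm, fun e => not_commute_of_four hD hf hv hfv (e ▸ hdf.symm)⟩, ?_⟩,
    hfv, hfv2⟩
  rw [← hdv]
  exact hdvD

/-- An odd partner and the product partners of a member generate the group. -/
theorem generated (hcl : Cfsg.IsRootInvolutionClass D)
    (hnd : Cfsg.IsNondegenerateRootInvolutionSet D)
    (hconn : Cfsg.IsConnectedSet (Cfsg.ProdAdj D) D) {d x : G} (hd : d ∈ D)
    (hx : x ∈ Cfsg.oddPartners D d) :
    Subgroup.closure (Cfsg.productPartners D d ∪ {x}) = ⊤ := by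
  have hD := hcl.1
  have hc := odd_connected hcl hnd
  have hdx := (mem_oddPartners hd).1 hx
  obtain ⟨R, hR⟩ : ∃ R, R = Subgroup.closure (Cfsg.productPartners D d ∪ {x}) := ⟨_, rfl⟩
  rw [← hR]
  have hxR : x ∈ R := hR ▸ Subgroup.subset_closure (Or.inr rfl)
  have hXR : ∀ f ∈ Cfsg.productPartners D d, f ∈ R := fun f hf =>
    hR ▸ Subgroup.subset_closure (Or.inl hf)
  have hdR : d ∈ R := by
    obtain ⟨e, he⟩ := exists_partner hcl hnd hd
    obtain ⟨-, heD, hne, hde, hmem⟩ := he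
    have h1 : e ∈ Cfsg.productPartners D d := ⟨⟨heD, hde.symm, hne.symm⟩, hde ▸ hmem⟩
    have h2 : d * e ∈ Cfsg.productPartners D d := by
      refine ⟨⟨hmem, ?_, fun h => ?_⟩, ?_⟩
      · rw [mul_assoc d e d, ← hde]
      · exact ne_one hD heD (mul_eq_left.1 h)
      · rwa [hde, mul_assoc e d d, mul_self hD hd, mul_one]
    have := mul_mem (hXR _ h2) (hXR _ h1)
    rwa [mul_assoc, mul_self hD heD, mul_one] at this
  -- the root set of `R`
  obtain ⟨E, hE⟩ : ∃ E : Set ↥R, E = {k : ↥R | (k : G) ∈ D} := ⟨_, rfl⟩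
  have hmemE : ∀ {k : ↥R}, k ∈ E ↔ (k : G) ∈ D := fun {k} => by rw [hE]; rfl
  have hord : ∀ k : ↥R, orderOf k = orderOf (k : G) := fun k => (Subgroup.orderOf_coe k).symm
  have hroot : Cfsg.IsRootInvolutionSet E := by
    refine ⟨fun k hk => (hord k).trans (hD.orderOf_eq _ (hmemE.1 hk)), ?_,
      fun k hk g => hmemE.2 (hD.conj_mem _ (hmemE.1 hk) (g : G)), fun k hk l hl => ?_⟩
    · rw [eq_top_iff]
      intro g _
      have key : ∀ y, ∀ hy : y ∈ Subgroup.closure (Cfsg.productPartners D d ∪ {x}),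
          (⟨y, hR ▸ hy⟩ : ↥R) ∈ Subgroup.closure E := by
        intro y hy
        induction hy using Subgroup.closure_induction with
        | mem w hw => exact Subgroup.subset_closure (hmemE.2 (hw.elim (fun h => h.1.1)
            fun h => (Set.mem_singleton_iff.1 h) ▸ hdx.2.1))
        | one => exact one_mem _
        | mul u v _ _ hu hv => exact mul_mem hu hv
        | inv u _ hu => exact inv_mem hu
      exact key g (hR ▸ g.2)
    · rcases hD.pair _ (hmemE.1 hk) _ (hmemE.1 hl) with e | e | e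
      · exact Or.inl (Subtype.ext e)
      · exact Or.inr (Or.inl (by rwa [hord, Subgroup.coe_mul]))
      · exact Or.inr (Or.inr ⟨(hord _).trans e.1, hmemE.2 e.2⟩)
  obtain ⟨d₁, hd₁⟩ : ∃ d₁ : ↥R, (d₁ : G) = d := ⟨⟨d, hdR⟩, rfl⟩
  obtain ⟨x₁, hx₁⟩ : ∃ x₁ : ↥R, (x₁ : G) = x := ⟨⟨x, hxR⟩, rfl⟩
  have hdE : d₁ ∈ E := hmemE.2 (hd₁ ▸ hd)
  have hadj : Cfsg.OddAdj E d₁ x₁ := ⟨hdE, hmemE.2 (hx₁ ▸ hdx.2.1),
    fun e => hdx.2.2.1 (by rw [← hd₁, ← hx₁, e]),
    by rw [hord, Subgroup.coe_mul, hd₁, hx₁]; exact hdx.2.2.2⟩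
  -- product partners are conjugates inside `R`
  have hXT : ∀ f ∈ Cfsg.productPartners D d, ∃ r ∈ R, r * d * r⁻¹ = f := by
    intro f hf
    obtain ⟨⟨hfD, hfd, hne⟩, hmem⟩ := hf
    obtain ⟨f₁, hf₁⟩ : ∃ f₁ : ↥R, (f₁ : G) = f := ⟨⟨f, hXR f ⟨⟨hfD, hfd, hne⟩, hmem⟩⟩, rfl⟩
    have hfE : f₁ ∈ E := hmemE.2 (hf₁ ▸ hfD)
    have hreach : Relation.ReflTransGen (Cfsg.OddAdj E) d₁ f₁ := by
      by_cases hiso : Cfsg.IsIsolatedElem (Cfsg.OddAdj E) E f₁
      swap
      · obtain ⟨y, hy⟩ := exists_adj_of_not_isolated hfE hiso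
        refine reach_of_product hroot (Subtype.ext ?_) (hmemE.2 ?_) hadj hy
        · simpa [hd₁, hf₁] using hfd.symm
        · simpa [hd₁, hf₁, ← hfd] using hmem
      exfalso
      have hne' : Cfsg.oddPartners D f ≠ Cfsg.oddPartners D d := fun e => by
        have := (mem_oddPartners hfD).1 (e ▸ hx)
        exact (hiso.2 x₁).1 ⟨hfE, hmemE.2 (hx₁ ▸ hdx.2.1),
          fun h => this.2.2.1 (by rw [← hf₁, ← hx₁, h]),
          by rw [hord, Subgroup.coe_mul, hf₁, hx₁]; exact this.2.2.2⟩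
      obtain ⟨v, hv, hfv, hfv2⟩ := exists_back hD hc hfD hd hfd.symm (hfd ▸ hmem) hne'
      obtain ⟨v₁, hv₁⟩ : ∃ v₁ : ↥R, (v₁ : G) = v := ⟨⟨v, hXR v hv⟩, rfl⟩
      have hW := normal_closure_of_conj_mem (s := {w | Cfsg.IsIsolatedElem (Cfsg.OddAdj E) E w})
        fun w hw g => isolated_conj hroot hw g
      have hfW : f₁ ∈ Subgroup.closure {w | Cfsg.IsIsolatedElem (Cfsg.OddAdj E) E w} :=
        Subgroup.subset_closure hiso
      have hdW : d₁ ∈ Subgroup.closure {w | Cfsg.IsIsolatedElem (Cfsg.OddAdj E) E w} := by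
        have h2 : d₁ = f₁ * (v₁ * f₁ * v₁⁻¹) := Subtype.ext (by
          simp only [Subgroup.coe_mul, Subgroup.coe_inv, hd₁, hf₁, hv₁]
          rw [← hfv2, inv_eq hD hv.1.1, pow_two]
          group)
        rw [h2]
        exact mul_mem hfW (hW.conj_mem _ hfW v₁)
      have hdiso := (closure_isolated_inter hroot).subset ⟨hdW, hdE⟩
      exact (hdiso.2 x₁).1 hadj
    have key : ∀ y, Relation.ReflTransGen (Cfsg.OddAdj E) d₁ y →
        ∃ r : ↥R, r * d₁ * r⁻¹ = y := by
      intro y hy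
      induction hy with
      | refl => exact ⟨1, by group⟩
      | tail _ h ihy =>
        obtain ⟨r, hr⟩ := ihy
        obtain ⟨k, hk⟩ := exists_conj_of_oddAdj hroot h
        exact ⟨k * r, by rw [← hk, ← hr]; group⟩
    obtain ⟨r, hr⟩ := key f₁ hreach
    exact ⟨r, r.2, by simpa [hd₁, hf₁] using congrArg Subtype.val hr⟩
  have horb : ∀ y, Conn D d y → ∃ r ∈ R, r * d * r⁻¹ = y := by
    intro y hy
    induction hy with
    | refl => exact ⟨1, one_mem _, by group⟩
    | @tail u w _ huw ihu =>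
      obtain ⟨r, hr, hru⟩ := ihu
      have h := prodAdj_conj hD r⁻¹ huw
      rw [← hru, show r⁻¹ * (r * d * r⁻¹) * r⁻¹⁻¹ = d by group] at h
      obtain ⟨-, hw, hne, hcm, hmem⟩ := h
      obtain ⟨s, hs, hsd⟩ := hXT _ ⟨⟨hw, hcm.symm, hne.symm⟩, hcm ▸ hmem⟩
      exact ⟨r * s, mul_mem hr hs, by
        rw [show r * s * d * (r * s)⁻¹ = r * (s * d * s⁻¹) * r⁻¹ by group, hsd]; group⟩
  rw [eq_top_iff, ← hD.generates, Subgroup.closure_le]
  intro y hy
  obtain ⟨r, hr, rfl⟩ := horb y (hconn d hd y hy)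
  exact mul_mem (mul_mem hr hdR) (inv_mem hr)

/-- Weak TI subsets generate abelian subgroups. -/
theorem weakTI_abelian (hcl : Cfsg.IsRootInvolutionClass D)
    (hnd : Cfsg.IsNondegenerateRootInvolutionSet D)
    (hconn : Cfsg.IsConnectedSet (Cfsg.ProdAdj D) D) {T : Set G}
    (hT : Cfsg.IsWeakTISubsetOfElements D T) : IsMulCommutative ↥(Subgroup.closure T) := by
  obtain ⟨hTD, -, hTne, hTI⟩ := hT
  have hD := hcl.1
  have hc := odd_connected hcl hnd
  let H : Subgroup G :=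
    { carrier := {g | (fun t => g * t * g⁻¹) '' T = T}
      one_mem' := by
        show _ '' T = T
        simp
      mul_mem' := fun {g h} hg hh => by
        show _ '' T = T
        conv_rhs => rw [← hg, ← hh, Set.image_image]
        exact Set.image_congr fun t _ => by group
      inv_mem' := fun {g} hg => by
        show _ '' T = T
        conv_lhs => rw [← hg, Set.image_image]
        rw [Set.image_congr (g := id) (fun t _ => by simp [mul_assoc]), Set.image_id] }
  have hfix : ∀ {u t : G}, u ∈ D → t ∈ T → u * t = t * u → u ∈ H := fun {u t} hu ht h =>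
    (hTI u hu).resolve_right
      (Set.not_disjoint_iff.2 ⟨t, ⟨t, ht, by simp only; rw [h, mul_inv_cancel_right]⟩, ht⟩)
  have hmove : ∀ {g t : G}, g ∈ H → t ∈ T → g * t * g⁻¹ ∈ T := fun {g t} hg ht => by
    rw [← (hg : (fun t => g * t * g⁻¹) '' T = T)]
    exact ⟨t, ht, rfl⟩
  have hodd : ∀ a ∈ T, ∀ b ∈ T, ¬ Cfsg.OddAdj D a b := by
    intro a ha b hb hab
    have htop := generated hcl hnd hconn (hTD ha) ((mem_oddPartners (hTD ha)).2 hab)
    have hle : Subgroup.closure (Cfsg.productPartners D a ∪ {b}) ≤ H := by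
      refine (Subgroup.closure_le _).2 (Set.union_subset (fun e he => hfix he.1.1 ha he.1.2.1) ?_)
      rintro _ rfl
      exact hfix (hTD hb) hb rfl
    refine hTne (Set.Subset.antisymm hTD fun y hy => ?_)
    obtain ⟨g, rfl⟩ := hcl.2.2 a (hTD ha) y hy
    exact hmove (hle (htop.ge (Subgroup.mem_top g))) ha
  refine Subgroup.isMulCommutative_closure fun a ha b hb => ?_
  rcases trichotomy hD (hTD ha) (hTD hb) with e | e | e
  · exact e
  · exact absurd e (hodd a ha b hb)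
  exfalso
  have haD := hTD ha
  have hbD := hTD hb
  obtain ⟨hqD, hba, -, hqa, hqb, -, -, hmem⟩ := four_facts hD haD hbD e rfl
  have hne : Cfsg.oddPartners D ((a * b) ^ 2) ≠ Cfsg.oddPartners D a := fun h => by
    have h1 : b ∈ Cfsg.commutingMembers D ((a * b) ^ 2) := ⟨hbD, hqb.symm⟩
    rw [commutingMembers_eq hD hc hqD haD h] at h1
    exact not_commute_of_four hD haD hbD e h1.2.symm
  obtain ⟨v, hv, hqv, hqv2⟩ := exists_back hD hc hqD haD hqa.symm hmem hne
  have h3 := orderOf_movers hD haD hqD hqa.symm e rfl hbD hqv hqv2 hv.1.1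
  have hvH : v ∈ H := hfix hv.1.1 ha hv.1.2.1
  have hb' := hmove hvH hb
  have hvb : b * (v * b * v⁻¹) = (b * v) ^ 2 := by
    rw [inv_eq hD hv.1.1, pow_two]; group
  refine hodd b hb _ hb' ⟨hbD, hD.conj_mem b hbD v, fun h => ?_, ?_⟩
  · have h1 : b * (v * b * v⁻¹) = 1 := by rw [← h, mul_self hD hbD]
    rw [hvb] at h1
    have := orderOf_dvd_of_pow_eq_one h1
    rw [h3] at this
    omega
  · rw [hvb]
    exact (show Odd (orderOf (b * v)) by rw [h3]; decide).of_dvd_nat (orderOf_pow_dvd 2)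

end Cfsg.Agent.Fus.RootClass
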