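import Mathlib
import Cfsg.Agent.Lib.Fus.RootClass.Blocks

/-!
# A block stabilizer with a core

If every proper section has connected product graphs, a proper block stabilizer has trivial core.
-/

set_option autoImplicit false
set_option linter.style.haveILetI false

namespace Cfsg.Agent.Fus.RootClass

open RootInv

variable {G : Type*} [Group G] [Finite G] {D : Set G}

/-- Non-degenerate classes of proper quotients have connected product graphs. -/
def ConnQuot (G : Type*) [Group G] : Prop :=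
  ∀ (N : Subgroup G) [N.Normal], N ≠ ⊥ → ∀ E : Set (G ⧸ N), Cfsg.IsRootInvolutionClass E →
    Cfsg.IsNondegenerateRootInvolutionSet E → Cfsg.IsConnectedSet (Cfsg.ProdAdj E) E

/-- The core of a proper block stabilizer is trivial. -/
theorem normalCore_eq_bot (hcl : Cfsg.IsRootInvolutionClass D)
    (hnd : Cfsg.IsNondegenerateRootInvolutionSet D) (ih : ConnBelow G) (ihq : ConnQuot G) {d : G}
    (hd : d ∈ D) (hM : blockStab hcl hnd ih hd ≠ ⊤) :
    (blockStab hcl hnd ih hd).normalCore = ⊥ := by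
  by_contra hbot
  have hD := hcl.1
  obtain ⟨N, hN⟩ : ∃ N, N = (blockStab hcl hnd ih hd).normalCore := ⟨_, rfl⟩
  haveI hNn : N.Normal := hN ▸ Subgroup.normalCore_normal _
  rw [← hN] at hbot
  have hNM : N ≤ blockStab hcl hnd ih hd := hN ▸ Subgroup.normalCore_le _
  have hNfix : ∀ n ∈ N, ∀ y, ∀ hy : y ∈ D, n ∈ blockStab hcl hnd ih hy := by
    intro n hn y hy
    obtain ⟨g, rfl⟩ := hcl.2.2 d hd y hy
    rw [mem_blockStab hcl hnd ih]
    have h := hNM (hNn.conj_mem n hn g⁻¹)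
    rw [mem_blockStab hcl hnd ih] at h
    have h1 := Rel.conj hD g h
    rwa [show g * (g⁻¹ * n * g⁻¹⁻¹ * d * (g⁻¹ * n * g⁻¹⁻¹)⁻¹) * g⁻¹ =
      n * (g * d * g⁻¹) * n⁻¹ by group] at h1
  have hdisj : ∀ y ∈ D, y ∉ N := fun y hy hyN => hM (eq_top_iff.2 (by
    rw [← hD.generates, Subgroup.closure_le]
    intro w hw
    obtain ⟨g, rfl⟩ := hcl.2.2 y hy w hw
    exact hNM (hNn.conj_mem y hyN g)))
  have hsame : ∀ a ∈ D, ∀ b ∈ D, (QuotientGroup.mk a : G ⧸ N) = QuotientGroup.mk b → Rel D a b := by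
    intro a ha b hb h
    refine rel_of_mem_blockStab hcl hnd ih ha hb ?_
    rw [show b = a * (a⁻¹ * b) by rw [mul_inv_cancel_left]]
    exact mul_mem (mem_blockStab_of_rel hcl hnd ih ha ha (Or.inl .refl))
      (hNfix _ (QuotientGroup.eq.1 h) a ha)
  obtain ⟨E, hE⟩ : ∃ E : Set (G ⧸ N), E = QuotientGroup.mk '' D := ⟨_, rfl⟩
  have hmemE : ∀ {y}, y ∈ D → (QuotientGroup.mk y : G ⧸ N) ∈ E := fun {y} hy => by
    rw [hE]; exact ⟨y, hy, rfl⟩
  have hliftE : ∀ {X : G ⧸ N}, X ∈ E → ∃ y ∈ D, QuotientGroup.mk y = X := fun {X} hX => by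
    rw [hE] at hX; exact hX
  have hne1 : ∀ y ∈ D, (QuotientGroup.mk y : G ⧸ N) ≠ 1 := fun y hy e =>
    hdisj y hy ((QuotientGroup.eq_one_iff y).1 e)
  have hfour : ∀ a ∈ D, ∀ b ∈ D, orderOf (a * b) = 4 →
      orderOf ((QuotientGroup.mk a : G ⧸ N) * QuotientGroup.mk b) = 4 := by
    intro a ha b hb h4
    haveI : Fact (Nat.Prime 2) := ⟨Nat.prime_two⟩
    refine orderOf_eq_prime_pow (p := 2) (n := 1) ?_ ?_
    · rw [pow_one, ← QuotientGroup.mk_mul, ← QuotientGroup.mk_pow]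
      exact hne1 _ (four_facts hD ha hb h4 rfl).1
    · rw [← QuotientGroup.mk_mul, ← QuotientGroup.mk_pow,
        show 2 ^ (1 + 1) = orderOf (a * b) by rw [h4]; rfl, pow_orderOf_eq_one,
        QuotientGroup.mk_one]
  have hodd : ∀ a b : G, Odd (orderOf (a * b)) →
      Odd (orderOf ((QuotientGroup.mk a : G ⧸ N) * QuotientGroup.mk b)) := fun a b h => by
    rw [← QuotientGroup.mk_mul]
    exact h.of_dvd_nat (orderOf_map_dvd (QuotientGroup.mk' N) _)
  have hroot : Cfsg.IsRootInvolutionSet E := by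
    refine ⟨?_, ?_, ?_, ?_⟩
    · intro X hX
      obtain ⟨y, hy, rfl⟩ := hliftE hX
      haveI : Fact (Nat.Prime 2) := ⟨Nat.prime_two⟩
      refine orderOf_eq_prime ?_ (hne1 y hy)
      rw [pow_two, ← QuotientGroup.mk_mul, mul_self hD hy, QuotientGroup.mk_one]
    · have := congrArg (Subgroup.map (QuotientGroup.mk' N)) hD.generates
      rw [MonoidHom.map_closure,
        Subgroup.map_top_of_surjective _ (QuotientGroup.mk'_surjective N)] at this
      rw [hE]
      exact this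
    · intro X hX g
      obtain ⟨y, hy, rfl⟩ := hliftE hX
      obtain ⟨g, rfl⟩ := QuotientGroup.mk_surjective g
      rw [← QuotientGroup.mk_inv, ← QuotientGroup.mk_mul, ← QuotientGroup.mk_mul]
      exact hmemE (hD.conj_mem y hy g)
    · intro X hX Y hY
      obtain ⟨a, ha, rfl⟩ := hliftE hX
      obtain ⟨b, hb, rfl⟩ := hliftE hY
      rcases hD.pair a ha b hb with h | h | h
      · exact Or.inl (by rw [← QuotientGroup.mk_mul, h, QuotientGroup.mk_mul])
      · exact Or.inr (Or.inl (hodd a b h))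
      · refine Or.inr (Or.inr ⟨hfour a ha b hb h.1, ?_⟩)
        rw [← QuotientGroup.mk_mul, ← QuotientGroup.mk_pow]
        exact hmemE h.2
  have hEcl : Cfsg.IsRootInvolutionClass E := by
    refine ⟨hroot, ⟨_, hmemE hd⟩, fun X hX Y hY => ?_⟩
    obtain ⟨a, ha, rfl⟩ := hliftE hX
    obtain ⟨b, hb, rfl⟩ := hliftE hY
    obtain ⟨g, rfl⟩ := hcl.2.2 a ha b hb
    exact ⟨QuotientGroup.mk g, by
      rw [QuotientGroup.mk_mul, QuotientGroup.mk_mul, QuotientGroup.mk_inv]⟩
  obtain ⟨b, hb, hnrel⟩ : ∃ b ∈ D, ¬ Rel D d b := by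
    by_contra! hall
    refine hM (eq_top_iff.2 fun g _ => ?_)
    rw [mem_blockStab hcl hnd ih]
    exact hall _ (hD.conj_mem d hd g)
  have hEnd : Cfsg.IsNondegenerateRootInvolutionSet E := by
    obtain ⟨e, he⟩ := exists_partner hcl hnd hd
    obtain ⟨t, ht, ht4⟩ := exists_four hcl hnd hd
    refine ⟨hroot, ⟨_, hmemE hd, _, hmemE he.2.1, fun h => ?_, ?_⟩,
      ⟨_, hmemE hd, _, hmemE hb, fun h => hnrel (hsame d hd b hb h),
        hodd d b ((commute_or_odd hD hd hb fun c => hnrel (Or.inl c)).resolve_left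
          fun c => hnrel (Or.inr c)).2.2.2⟩,
      ⟨_, hmemE hd, _, hmemE ht, hfour d hd t ht ht4⟩⟩
    · refine hdisj _ he.2.2.2.2 ?_
      have := QuotientGroup.eq.1 h
      rwa [inv_eq hD hd] at this
    · rw [← QuotientGroup.mk_mul, he.2.2.2.1, QuotientGroup.mk_mul]
  have hadj : ∀ a ∈ D, ∀ c ∈ D, Cfsg.ProdAdj E (QuotientGroup.mk a) (QuotientGroup.mk c) →
      Rel D a c := by
    intro a ha c hc h
    by_contra hn
    have ho := ((commute_or_odd hD ha hc fun e => hn (Or.inl e)).resolve_left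
      fun e => hn (Or.inr e)).2.2.2
    have h2 := orderOf_dvd_of_pow_eq_one (sq_of_commute hroot h.1 h.2.1 h.2.2.2.1)
    have h1 : orderOf ((QuotientGroup.mk a : G ⧸ N) * QuotientGroup.mk c) = 1 :=
      Nat.eq_one_of_dvd_coprimes (hodd a c ho).coprime_two_right dvd_rfl h2
    rw [orderOf_eq_one_iff, mul_eq_one_iff_eq_inv, inv_eq hroot h.2.1] at h1
    exact h.2.2.1 h1
  have key : ∀ X, Relation.ReflTransGen (Cfsg.ProdAdj E) (QuotientGroup.mk d) X →
      ∀ c ∈ D, QuotientGroup.mk c = X → Rel D d c := by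
    intro X hX
    induction hX with
    | refl => exact fun c hc e => hsame d hd c hc e.symm
    | @tail Y Z _ hYZ ihY =>
      rintro c hc rfl
      obtain ⟨a, ha, rfl⟩ := hliftE hYZ.1
      exact Rel.trans hcl hnd ih hd ha hc (ihY a ha rfl) (hadj a ha c hc hYZ)
  exact hnrel (key _ (ihq N hbot E hEcl hEnd _ (hmemE hd) _ (hmemE hb)) b hb rfl)

end Cfsg.Agent.Fus.RootClass
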