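import Mathlib
import Cfsg.Agent.Lib.Fus.RootClass.Quotient
import Cfsg.Agent.Lib.Fus.RootClass.Generation
import Cfsg.Agent.Lib.Fus.RootClass.SEInvolutions
import Cfsg.Agent.Lib.Fus.RootCriterion.Embedded

/-!
# The product graph of a non-degenerate class of root involutions is connected

By induction on the order of the group a disconnected class has a proper block stabilizer with
trivial core; then the block is closed under products and the stabilizer is strongly embedded, so its
involutions commute, against the pairs with product of order four in a component.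
-/

set_option autoImplicit false
set_option linter.style.haveILetI false

namespace Cfsg.Agent.Fus.RootClass

open RootInv

universe u

variable {G : Type u} [Group G] [Finite G] {D : Set G}

theorem connected_step (hA : Tight.Criterion.{u}) (hcl : Cfsg.IsRootInvolutionClass D)
    (hnd : Cfsg.IsNondegenerateRootInvolutionSet D) (ih : ConnBelow G) (ihq : ConnQuot G) :
    Cfsg.IsConnectedSet (Cfsg.ProdAdj D) D := by
  have hD := hcl.1
  by_contra hnc
  obtain ⟨d, hd, b, hb, hn⟩ : ∃ d ∈ D, ∃ b ∈ D, ¬ Rel D d b := by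
    by_contra! h
    exact hnc (connected_of_all_rel hcl h)
  have hM : blockStab hcl hnd ih hd ≠ ⊤ := fun e =>
    hn (rel_of_mem_blockStab hcl hnd ih hd hb (e ▸ Subgroup.mem_top b))
  have hcore := normalCore_eq_bot hcl hnd ih ihq hd hM
  have hcrit : RootCrit.Hyp D (blockStab hcl hnd ih hd) :=
    ⟨hD.orderOf_eq, hD.conj_mem, hD.pair,
      ⟨d, hd, mem_blockStab_of_rel hcl hnd ih hd hd (Or.inl .refl)⟩,
      fun u hu huM g hg => moves_blockStab hcl hnd ih hd hu huM hg, hM⟩
  have hse := hcrit.stronglyEmbedded hA hD.generates hcore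
  obtain ⟨e, he⟩ := exists_partner hcl hnd hd
  obtain ⟨t, ht, h4⟩ := exists_four hcl hnd hd
  have hr : Invol.Bender.TwoRank (⊤ : Subgroup G) :=
    ⟨d, Subgroup.mem_top d, e, Subgroup.mem_top e, hD.orderOf_eq d hd, hD.orderOf_eq e he.2.1,
      he.2.2.1, he.2.2.2.1⟩
  refine not_commute_of_four hD hd ht h4 (commute_involutions hse hcore hr (hD.orderOf_eq d hd)
    (mem_blockStab_of_rel hcl hnd ih hd hd (Or.inl .refl)) (hD.orderOf_eq t ht)
    (mem_blockStab_of_rel hcl hnd ih hd ht (Or.inl (conn_of_four hD hd ht h4)))).eq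

/-- The product graph is connected. -/
theorem connected (hA : Tight.Criterion.{u}) (hcl : Cfsg.IsRootInvolutionClass D)
    (hnd : Cfsg.IsNondegenerateRootInvolutionSet D) : Cfsg.IsConnectedSet (Cfsg.ProdAdj D) D := by
  suffices key : ∀ n, ∀ (H : Type u) [Group H] [Finite H] (E : Set H), Nat.card H < n →
      Cfsg.IsRootInvolutionClass E → Cfsg.IsNondegenerateRootInvolutionSet E →
      Cfsg.IsConnectedSet (Cfsg.ProdAdj E) E from key _ G D (Nat.lt_succ_self _) hcl hnd
  intro n
  induction n with
  | zero => intro H _ _ E h; omega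
  | succ n ih =>
    intro H _ _ E hlt hEc hEn
    refine connected_step hA hEc hEn (fun K F hK hF hF' => ih K F ?_ hF hF') ?_
    · have : Nat.card K < Nat.card H :=
        lt_of_le_of_ne (Subgroup.card_le_card_group K) fun e => hK (Subgroup.eq_top_of_card_eq K e)
      omega
    · intro N _ hN F hF hF'
      refine ih (H ⧸ N) F ?_ hF hF'
      have h1 : Nat.card (H ⧸ N) * Nat.card N = Nat.card H := N.card_eq_card_quotient_mul_card_subgroup.symm
      have h2 : 1 < Nat.card N := N.one_lt_card_iff_ne_bot.2 hN
      have h3 : 0 < Nat.card (H ⧸ N) := Nat.card_pos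
      have : Nat.card (H ⧸ N) < Nat.card H := by
        rw [← h1]; exact lt_mul_of_one_lt_right h3 h2
      omega

/-- Generation and connectedness. -/
theorem s5054_of (hA : Tight.Criterion.{u}) (hnd : Cfsg.IsNondegenerateRootInvolutionSet D)
    (hcl : Cfsg.IsRootInvolutionClass D) :
    (∀ d ∈ D, ∀ x ∈ Cfsg.oddPartners D d,
      Subgroup.closure (Cfsg.productPartners D d ∪ {x}) = ⊤) ∧
    Cfsg.IsConnectedSet (Cfsg.ProdAdj D) D :=
  ⟨fun _ hd _ hx => generated hcl hnd (connected hA hcl hnd) hd hx, connected hA hcl hnd⟩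

/-- Weak TI subsets are abelian. -/
theorem s5053_of (hA : Tight.Criterion.{u}) (hnd : Cfsg.IsNondegenerateRootInvolutionSet D)
    (hcl : Cfsg.IsRootInvolutionClass D) {T : Set G} (hT : Cfsg.IsWeakTISubsetOfElements D T) :
    IsMulCommutative ↥(Subgroup.closure T) :=
  weakTI_abelian hcl hnd (connected hA hcl hnd) hT

end Cfsg.Agent.Fus.RootClass
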